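import Mathlib

/-!
Residue characteristic exponents along specializations.
-/

set_option autoImplicit false

universe u

open AlgebraicGeometry CategoryTheory TopologicalSpace

namespace Groth.FgaTau

theorem natCast_eq_zero_iff_ringExpChar {K : Type*} [Field K] {l : ℕ} (hl : l.Prime) :
    (l : K) = 0 ↔ ringExpChar K = l := by
  constructor
  · intro h
    haveI : Fact l.Prime := ⟨hl⟩
    haveI : CharP K l := (CharP.charP_iff_prime_eq_zero hl).2 h
    rw [ringExpChar, ringChar.eq K l]
    exact max_eq_left hl.one_le
  · intro h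
    have h' : ringChar K = l := by
      rcases le_total (ringChar K) 1 with h1 | h1
      · rw [ringExpChar, max_eq_right h1] at h
        exact absurd h.symm hl.ne_one
      · rwa [ringExpChar, max_eq_left h1] at h
    rw [← h']; exact CharP.cast_eq_zero K _

variable {S : Scheme.{u}}

/-- The points where a natural number is invertible form an open set. -/
theorem isOpen_natCast_ne_zero (l : ℕ) : IsOpen {s : S | (l : S.residueField s) ≠ 0} := by
  have : {s : S | (l : S.residueField s) ≠ 0} = (S.basicOpen ((l : Γ(S, ⊤))) : Set S) := by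
    ext s
    rw [SetLike.mem_coe, ← S.evaluation_ne_zero_iff_mem_basicOpen (U := ⊤) s trivial]
    rw [map_natCast]
    rfl
  rw [this]
  exact (S.basicOpen _).isOpen

theorem natCast_eq_zero_of_specializes {t s : S} (h : t ⤳ s) {l : ℕ} (hl : (l : S.residueField t) = 0) :
    (l : S.residueField s) = 0 := by
  by_contra hne
  exact (h.mem_open (isOpen_natCast_ne_zero l) hne) hl

theorem exists_eq_pow {d p : ℕ} (hd : d ≠ 0) (h : ∀ l : ℕ, l.Prime → l ∣ d → p = l) : ∃ k, d = p ^ k := by
  by_cases h1 : d = 1
  · exact ⟨0, by rw [h1, pow_zero]⟩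
  · have hl := Nat.minFac_prime h1
    have hp := h _ hl (Nat.minFac_dvd d)
    exact ⟨_, Nat.eq_prime_pow_of_unique_prime_dvd hd fun {l} hl' hld => (h l hl' hld).symm⟩

end Groth.FgaTau
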