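import Groth.Agent.FgaTau.Orders
import Groth.Agent.Calg2.ProConsCriteria
import Groth.Agent.AlgSp2.FiniteMor
import Groth.Agent.GeomComp.EtaleSpread
import Mathlib

/-!
The union of the identity components is an open subgroup over a nonempty open of the base.
-/

set_option autoImplicit false
set_option linter.style.haveILetI false

universe u

open CategoryTheory CategoryTheory.Limits MonoidalCategory CartesianMonoidalCategory MonObj GrpObj
  AlgebraicGeometry TopologicalSpace Topology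

noncomputable section

namespace Groth.FgaTau

open Groth.GrpschAbsch Groth.Sga3.NeutralGen

/-- A nonempty affine open with a point to which every point of it is a specialization. -/
theorem exists_irreducible_affine (S : Scheme.{u}) [IsLocallyNoetherian S] [Nonempty ↥S] :
    ∃ (U : S.Opens) (gp : S), IsAffineOpen U ∧ gp ∈ U ∧ ∀ x ∈ U, gp ⤳ x := by
  obtain ⟨V, hV, hxV, -⟩ := exists_isAffineOpen_mem_and_subset (U := (⊤ : S.Opens))
    (x := Classical.arbitrary ↥S) trivial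
  haveI : IsAffine (V : Scheme.{u}) := hV
  haveI : IsNoetherian (V : Scheme.{u}) := {}
  haveI : NoetherianSpace (V : Scheme.{u}) := inferInstance
  let a : (V : Scheme.{u}) := ⟨_, hxV⟩
  let Z := irreducibleComponent a
  have hZ : Z ∈ irreducibleComponents (V : Scheme.{u}) := irreducibleComponent_mem_irreducibleComponents _
  obtain ⟨gp, hgp⟩ := QuasiSober.sober hZ.1 (isClosed_of_mem_irreducibleComponents Z hZ)
  have hfin : (irreducibleComponents (V : Scheme.{u})).Finite := NoetherianSpace.finite_irreducibleComponents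
  let R : Set (V : Scheme.{u}) := ⋃₀ (irreducibleComponents (V : Scheme.{u}) \ {Z})
  have hR : IsClosed R := by
    show IsClosed (⋃₀ _)
    rw [Set.sUnion_eq_biUnion]
    exact (hfin.subset Set.sdiff_subset).isClosed_biUnion fun A hA => isClosed_of_mem_irreducibleComponents A hA.1
  have hgpR : gp ∉ R := by
    rintro ⟨A, ⟨hA, hAZ⟩, hgpA⟩
    have hsub : Z ⊆ A := fun z hz => (hgp.specializes hz).mem_closed (isClosed_of_mem_irreducibleComponents A hA) hgpA
    exact hAZ (Set.Subset.antisymm (hZ.2 hA.1 hsub) hsub)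
  obtain ⟨U, hU, hgpU, hUR⟩ := exists_isAffineOpen_mem_and_subset (x := V.ι.base gp)
    (U := (⟨V.ι.base '' Rᶜ, V.ι.isOpenEmbedding.isOpenMap _ hR.isOpen_compl⟩ : S.Opens)) ⟨gp, hgpR, rfl⟩
  refine ⟨U, V.ι.base gp, hU, hgpU, fun x hx => ?_⟩
  obtain ⟨b, hb, rfl⟩ := hUR hx
  have hbZ : b ∈ Z := by
    by_contra hbZ
    exact hb ⟨_, ⟨irreducibleComponent_mem_irreducibleComponents b,
      fun h => hbZ (Set.mem_singleton_iff.1 h ▸ mem_irreducibleComponent)⟩, mem_irreducibleComponent⟩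
  exact (hgp.specializes hbZ).map V.ι.continuous

variable {S : Scheme.{u}} [IsLocallyNoetherian S] [Nonempty ↥S] (G : Over S) [GrpObj G] [LocallyOfFiniteType G.hom]

/-- Over a nonempty affine open, the neutral set is a compact open. -/
theorem exists_open_neutralSet :
    ∃ (U : S.Opens) (O : G.left.Opens), IsAffineOpen U ∧ (U : Set ↥S).Nonempty ∧
      (O : Set G.left) = SGA3x.neutralSet G ∩ G.hom.base ⁻¹' (U : Set ↥S) ∧ IsCompact (O : Set G.left) := by
  classical
  haveI : LocallyOfFinitePresentation G.hom := Groth.AlgSp2.lfp_of_isLocallyNoetherian G.hom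
  haveI : IsLocallyNoetherian G.left := LocallyOfFiniteType.isLocallyNoetherian G.hom
  haveI : QuasiSeparated G.hom := QuasiSeparated.of_quasiSeparatedSpace G.hom
  obtain ⟨U, gp, hU, hgpU, hgen⟩ := exists_irreducible_affine S
  choose S₀ Wc hs hS₀ hWc e eη using fun s : S => exists_unit_chart (G := G) s
  obtain ⟨F, hF⟩ := hU.isCompact.elim_finite_subcover (fun s => (S₀ s : Set S)) (fun s => (S₀ s).2)
    fun s _ => Set.mem_iUnion.2 ⟨s, hs s⟩
  let K : Set G.left := ⋃ s ∈ F, Set.range (chartMul (G := G) (Wc s)).left.base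
  have hK : IsCompact K := F.finite_toSet.isCompact_biUnion fun s _ => by
    haveI := isAffine_chartObj_tensor (e s) (hS₀ s) (hWc s)
    exact isCompact_range (chartMul (Wc s)).left.continuous
  have hNK : SGA3x.neutralSet G ∩ G.hom.base ⁻¹' (U : Set ↥S) ⊆ K := fun x ⟨hx, hxU⟩ => by
    obtain ⟨s, hsF, hxs⟩ := Set.mem_iUnion₂.1 (hF hxU)
    obtain ⟨c, -, hc⟩ := (image_chartPairs (G := G) (e s) (eη s)).ge ⟨hx, hxs⟩
    exact Set.mem_iUnion₂.2 ⟨s, hsF, c, hc⟩
  obtain ⟨t, ht⟩ := hK.elim_finite_subcover (fun V : G.left.affineOpens => ((V : G.left.Opens) : Set G.left))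
    (fun V => (V : G.left.Opens).isOpen) fun y _ => by
      obtain ⟨V, hV, hyV, -⟩ := exists_isAffineOpen_mem_and_subset (U := ⊤) (x := y) trivial
      exact Set.mem_iUnion.2 ⟨⟨V, hV⟩, hyV⟩
  let W : G.left.Opens := ⟨⋃ V ∈ t, ((V : G.left.Opens) : Set G.left), isOpen_biUnion fun V _ => (V : G.left.Opens).isOpen⟩
  have hWc' : IsCompact (W : Set G.left) := t.finite_toSet.isCompact_biUnion fun V _ => V.2.isCompact
  haveI : CompactSpace (W : Scheme.{u}) := isCompact_iff_compactSpace.1 hWc'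
  haveI : IsNoetherian (W : Scheme.{u}) := {}
  haveI : NoetherianSpace (W : Scheme.{u}) := inferInstance
  -- an open meeting the generic fibre in its neutral component
  have : LocallyOfFiniteType (G.hom.fiberToSpecResidueField gp) := MorphismProperty.pullback_snd _ _ inferInstance
  have : IsLocallyNoetherian (G.hom.fiber gp) := LocallyOfFiniteType.isLocallyNoetherian (G.hom.fiberToSpecResidueField gp)
  have := Groth.SGA7.IdComponent.locallyConnectedSpace (X := G.hom.fiber gp)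
  obtain ⟨O₀, hO₀, hO₀eq⟩ := (G.hom.fiberι gp).isEmbedding.isInducing.isOpen_iff.1
    (isOpen_connectedComponent (x := NeutralSet.oneFib G gp))
  let D : Set (W : Scheme.{u}) := (W.ι.base ⁻¹' O₀ \ W.ι.base ⁻¹' SGA3x.neutralSet G) ∪
    (W.ι.base ⁻¹' SGA3x.neutralSet G \ W.ι.base ⁻¹' O₀)
  have hN : IsConstructible (W.ι.base ⁻¹' SGA3x.neutralSet G) :=
    ((isLocallyConstructible_neutralSet (G := G)).preimage_of_isOpenEmbedding W.ι.isOpenEmbedding).isConstructible
  have hO₀c : IsConstructible (W.ι.base ⁻¹' O₀) :=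
    Groth.Calg2.ProCons.isConstructible_of_isCompact (hO₀.preimage W.ι.continuous) (NoetherianSpace.isCompact _)
  haveI : QuasiCompact (W.ι ≫ G.hom) := inferInstance
  have hC : IsLocallyConstructible ((W.ι ≫ G.hom).base '' D) :=
    (W.ι ≫ G.hom).isLocallyConstructible_image ((hO₀c.sdiff hN).union (hN.sdiff hO₀c)).isLocallyConstructible
  have hCgp : gp ∉ (W.ι ≫ G.hom).base '' D := by
    rintro ⟨w, hw, hwgp⟩
    obtain ⟨c, hc⟩ : W.ι.base w ∈ Set.range (G.hom.fiberι gp).base := (G.hom.range_fiberι gp).ge hwgp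
    have hiff : W.ι.base w ∈ O₀ ↔ W.ι.base w ∈ SGA3x.neutralSet G := by
      rw [← hc, NeutralSet.fiberι_mem_iff, ← hO₀eq]; rfl
    rcases hw with ⟨h1, h2⟩ | ⟨h1, h2⟩
    · exact h2 (hiff.1 h1)
    · exact h2 (hiff.2 h1)
  have hint : gp ∈ interior ((W.ι ≫ G.hom).base '' D)ᶜ := by
    refine Groth.Calg2.ProCons.mem_interior_of_generizations
      (Groth.Calg2.ProCons.isIndConstructible_of fun V hV y hy => ?_) fun x' hx' => ?_
    · haveI : IsAffine (V : Scheme.{u}) := hV
      exact ⟨_, (hC.preimage_of_isOpenEmbedding V.ι.isOpenEmbedding).isConstructible.compl, hy, subset_rfl⟩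
    · rw [(hx'.antisymm (hgen x' (hx'.mem_open U.2 hgpU))).eq]; exact hCgp
  obtain ⟨U', hU', hgpU', hU'le⟩ := exists_isAffineOpen_mem_and_subset (x := gp)
    (U := (⟨interior ((W.ι ≫ G.hom).base '' D)ᶜ, isOpen_interior⟩ : S.Opens) ⊓ U) ⟨hint, hgpU⟩
  have key : ∀ x, G.hom.base x ∈ U' → x ∈ W → (x ∈ O₀ ↔ x ∈ SGA3x.neutralSet G) := fun x hx hxW => by
    have := interior_subset (hU'le hx).1
    by_contra hne
    rw [not_iff] at hne
    refine this ⟨⟨x, hxW⟩, ?_, rfl⟩
    by_cases h : x ∈ O₀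
    · exact Or.inl ⟨h, fun hN => (hne.2 hN) h⟩
    · exact Or.inr ⟨hne.1 h, h⟩
  refine ⟨U', ⟨O₀, hO₀⟩ ⊓ W ⊓ G.hom ⁻¹ᵁ U', hU', ⟨gp, hgpU'⟩, ?_, ?_⟩
  · ext x
    constructor
    · rintro ⟨⟨hx, hxW⟩, hxU⟩
      exact ⟨(key x hxU hxW).1 hx, hxU⟩
    · rintro ⟨hx, hxU⟩
      have hxW : x ∈ W := ht (hNK ⟨hx, (hU'le hxU).2⟩)
      exact ⟨⟨(key x hxU hxW).2 hx, hxW⟩, hxU⟩
  · rw [show ((⟨O₀, hO₀⟩ ⊓ W ⊓ G.hom ⁻¹ᵁ U' : G.left.Opens) : Set G.left) =
      W.ι.base '' (W.ι.base ⁻¹' (O₀ ∩ G.hom.base ⁻¹' (U' : Set ↥S))) by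
      rw [Set.image_preimage_eq_inter_range, Scheme.Opens.range_ι]
      ext x
      exact ⟨fun h => ⟨⟨h.1.1, h.2⟩, h.1.2⟩, fun h => ⟨⟨h.1.1, h.2⟩, h.1.2⟩⟩]
    exact (NoetherianSpace.isCompact _).image W.ι.continuous

omit [IsLocallyNoetherian S] [Nonempty ↥S] [LocallyOfFiniteType G.hom] in
/-- An open neutral set carries an open subgroup structure. -/
theorem exists_openSubgroup (hO : IsOpen (SGA3x.neutralSet G)) :
    ∃ (H : Over S) (_ : GrpObj H) (i : H ⟶ G), IsMonHom i ∧ IsOpenImmersion i.left ∧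
      Set.range i.left.base = SGA3x.neutralSet G := by
  let O : G.left.Opens := ⟨SGA3x.neutralSet G, hO⟩
  let Z : Over S := Over.mk (O.ι ≫ G.hom)
  let i : Z ⟶ G := Over.homMk O.ι rfl
  haveI : Mono i.left := inferInstanceAs (Mono O.ι)
  haveI : Mono i := Over.mono_of_mono_left i
  have hfac : ∀ {T : Over S} (g : T ⟶ G), Set.range g.left.base ⊆ SGA3x.neutralSet G → ∃ z : T ⟶ Z, z ≫ i = g :=
    fun {T} g hg => ⟨Over.homMk (IsOpenImmersion.lift O.ι g.left (hg.trans O.range_ι.ge)) (by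
        show IsOpenImmersion.lift _ _ _ ≫ O.ι ≫ G.hom = _
        rw [IsOpenImmersion.lift_fac_assoc, Over.w g]),
      Over.OverMorphism.ext (IsOpenImmersion.lift_fac _ _ _)⟩
  have hiN : ∀ p, i.left.base p ∈ SGA3x.neutralSet G := fun p => O.range_ι.le ⟨p, rfl⟩
  obtain ⟨grp, hmon⟩ := NeutralSet.exists_grpObj_of_mono G i
    (hfac _ (by rintro _ ⟨p, rfl⟩; exact unit_mem G p))
    (hfac _ (by
      rintro _ ⟨p, rfl⟩
      exact mul_mem _ _ (by rw [Over.comp_left, Scheme.Hom.comp_apply]; exact hiN _)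
        (by rw [Over.comp_left, Scheme.Hom.comp_apply]; exact hiN _)))
    (hfac _ (by
      rintro _ ⟨p, rfl⟩
      exact inv_mem _ (hiN p)))
  exact ⟨Z, grp, i, hmon, inferInstanceAs (IsOpenImmersion O.ι), O.range_ι⟩

end Groth.FgaTau
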