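import Groth.Agent.FgaTau.Orders
import Groth.Agent.Calg2.ProConsCriteria
import Groth.Agent.AlgSp2.FiniteMor
import Groth.Agent.S15543
import Groth.Agent.AlgSpBasic.EtaleLocalSets
import Mathlib

/-!
Openness and closedness criteria for loci of torsion points of a group scheme.
-/

set_option autoImplicit false
set_option linter.style.haveILetI false

universe u

open CategoryTheory CategoryTheory.Limits MonoidalCategory CartesianMonoidalCategory MonObj GrpObj
  AlgebraicGeometry TopologicalSpace Topology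

noncomputable section

namespace Groth.FgaTau

open Groth.GrpschAbsch Groth.Sga3.NeutralGen

/-- On a locally Noetherian scheme, a set stable under specialization which, near each point outside it,
misses the closure of that point, is closed. -/
theorem isClosed_of_stable {X : Scheme.{u}} [IsLocallyNoetherian X] {T : Set X}
    (hspec : ∀ a b : X, a ⤳ b → a ∈ T → b ∈ T)
    (hloc : ∀ ξ : X, ξ ∉ T → ∃ O : Set X, IsOpen O ∧ ξ ∈ O ∧ ∀ z ∈ O, ξ ⤳ z → z ∉ T) : IsClosed T := by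
  refine isClosed_of_closure_subset fun x hx => ?_
  obtain ⟨V, hV, hxV, -⟩ := exists_isAffineOpen_mem_and_subset (U := (⊤ : X.Opens)) (x := x) trivial
  haveI : IsAffine (V : Scheme.{u}) := hV
  haveI : IsNoetherian (V : Scheme.{u}) := {}
  haveI : NoetherianSpace (V : Scheme.{u}) := inferInstance
  let C : Set (V : Scheme.{u}) := closure (V.ι.base ⁻¹' T)
  have hxC : (⟨x, hxV⟩ : (V : Scheme.{u})) ∈ C := by
    refine mem_closure_iff.2 ?_
    intro O hO hxO
    obtain ⟨_, ⟨w, hw, rfl⟩, hwT⟩ := mem_closure_iff.1 hx _ (V.ι.isOpenEmbedding.isOpenMap _ hO) ⟨_, hxO, rfl⟩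
    exact ⟨w, hw, hwT⟩
  -- irreducible components of the closure
  haveI : NoetherianSpace C := inferInstance
  obtain ⟨Z, hZ, hxZ⟩ : ∃ Z ∈ irreducibleComponents C, (⟨⟨x, hxV⟩, hxC⟩ : C) ∈ Z :=
    ⟨_, irreducibleComponent_mem_irreducibleComponents _, mem_irreducibleComponent⟩
  let O₀ : Set C := (⋃₀ (irreducibleComponents C \ {Z}))ᶜ
  have hfin : (irreducibleComponents C).Finite := NoetherianSpace.finite_irreducibleComponents
  have hO₀ : IsOpen O₀ := IsClosed.isOpen_compl (self :=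
    (by rw [Set.sUnion_eq_biUnion]; exact (hfin.subset Set.sdiff_subset).isClosed_biUnion fun A hA => isClosed_of_mem_irreducibleComponents A hA.1))
  have hirr : IsIrreducible ((Subtype.val : C → (V : Scheme.{u})) '' Z) := hZ.1.image _ continuous_subtype_val.continuousOn
  have hcl : IsClosed ((Subtype.val : C → (V : Scheme.{u})) '' Z) :=
    isClosed_closure.isClosedEmbedding_subtypeVal.isClosedMap _ (isClosed_of_mem_irreducibleComponents Z hZ)
  obtain ⟨ζ, hζ⟩ := QuasiSober.sober hirr hcl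
  obtain ⟨ζC, hζZ, hζv⟩ := hζ.mem
  have hζx : ζ ⤳ (⟨x, hxV⟩ : (V : Scheme.{u})) := hζ.specializes ⟨_, hxZ, rfl⟩
  by_contra hxT
  have hζT : V.ι.base ζ ∉ T := fun h => hxT (hspec _ _ (hζx.map V.ι.continuous) h)
  obtain ⟨O, hO, hζO, hOT⟩ := hloc _ hζT
  have hζ₀ : ζC ∈ O₀ := by
    rintro ⟨A, ⟨hA, hAZ⟩, hζA⟩
    refine hAZ ?_
    have hsub : Z ⊆ A := fun z hz => by
      have h1 : ζC ⤳ z := (subtype_specializes_iff _ _).2 (hζv ▸ hζ.specializes ⟨z, hz, rfl⟩)
      exact h1.mem_closed (isClosed_of_mem_irreducibleComponents A hA) hζA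
    exact Set.Subset.antisymm (hZ.2 hA.1 hsub) hsub
  obtain ⟨O₁, hO₁, hO₁eq⟩ := isOpen_induced_iff.1 hO₀
  obtain ⟨t, ⟨ht₁, ht₂⟩, htT⟩ := mem_closure_iff.1 ζC.2 (O₁ ∩ V.ι.base ⁻¹' O)
    (hO₁.inter (hO.preimage V.ι.continuous))
    ⟨by have := hζ₀; rw [← hO₁eq] at this; exact this, by show V.ι.base ζC.1 ∈ O; rw [hζv]; exact hζO⟩
  have htC : t ∈ C := subset_closure htT
  have htZ : (⟨t, htC⟩ : C) ∈ Z := by
    obtain ⟨A, hA, htA⟩ : ∃ A ∈ irreducibleComponents C, (⟨t, htC⟩ : C) ∈ A :=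
      ⟨_, irreducibleComponent_mem_irreducibleComponents _, mem_irreducibleComponent⟩
    by_contra htnZ
    have : (⟨t, htC⟩ : C) ∈ O₀ := hO₁eq ▸ ht₁
    exact this ⟨A, ⟨hA, fun h => htnZ (h ▸ htA)⟩, htA⟩
  exact hOT _ ht₂ ((hζ.specializes ⟨_, htZ, rfl⟩).map V.ι.continuous) htT

variable {S : Scheme.{u}} {G : Over S} [GrpObj G]

/-- The torsion set is open. -/
theorem isOpen_tau [LocallyOfFinitePresentation G.hom] :
    IsOpen {x : ↥G.left | ∃ n : ℕ, 0 < n ∧ pw G n x ∈ SGA3x.neutralSet G} := by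
  have hind : ProCons.IsIndConstructible {x : ↥G.left | ∃ n : ℕ, 0 < n ∧ pw G n x ∈ SGA3x.neutralSet G} := by
    refine Groth.Calg2.ProCons.isIndConstructible_of fun V hV y hy => ?_
    obtain ⟨n, hn, hny⟩ := hy
    haveI : IsAffine (V : Scheme.{u}) := hV
    obtain ⟨W, hW, hWV, w, hw, T, hT, hwT, hTE⟩ := Groth.Calg2.ProCons.exists_constructible_of_ind
      (Groth.Agent.S15543.result (V.ι ≫ ((𝟙 G : G ⟶ G) ^ n).left) _ (isIndConstructible_neutralSet (G := G)))
      (x := y) (show ((𝟙 G : G ⟶ G) ^ n).left.base (V.ι.base y) ∈ SGA3x.neutralSet G from hny) ⊤ trivial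
    haveI : IsAffine (W : Scheme.{u}) := hW
    refine ⟨W.ι.base '' T, ?_, ⟨w, hwT, hw⟩, ?_⟩
    · refine hT.image_of_isOpenEmbedding W.ι.isOpenEmbedding ?_
      rw [Scheme.Opens.range_ι]
      exact fun U hU hUo => QuasiSeparatedSpace.inter_isCompact _ _ W.isOpen hW.isCompact hUo hU
    · rintro _ ⟨z, hz, rfl⟩
      exact ⟨n, hn, hTE hz⟩
  rw [isOpen_iff_mem_nhds]
  rintro x ⟨n, hn, hx⟩
  exact mem_interior_iff_mem_nhds.1 (Groth.Calg2.ProCons.mem_interior_of_generizations hind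
    fun x' h => exists_pw_mem_of_specializes h hn hx)

/-- The exact order is constant near a point, along its closure. -/
theorem exists_open_order (h0 : IsClosed (SGA3x.neutralSet G)) {ξ : G.left} {d : ℕ} (hd0 : 0 < d)
    (hd : ∀ n, pw G n ξ ∈ SGA3x.neutralSet G ↔ d ∣ n) :
    ∃ O : Set G.left, IsOpen O ∧ ξ ∈ O ∧
      ∀ z ∈ O, ξ ⤳ z → ∀ n, pw G n z ∈ SGA3x.neutralSet G ↔ d ∣ n := by
  refine ⟨⋂ e ∈ Finset.Ioo 0 d, (pw G e ⁻¹' SGA3x.neutralSet G)ᶜ,
    isOpen_biInter_finset fun e _ => (h0.preimage (continuous_pw e)).isOpen_compl,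
    Set.mem_iInter₂.2 fun e he h => ?_, fun z hz hξz n => ?_⟩
  · obtain ⟨he0, hed⟩ := Finset.mem_Ioo.1 he
    exact absurd (Nat.le_of_dvd he0 ((hd e).1 h)) (not_le.2 hed)
  · have hzd : pw G d z ∈ SGA3x.neutralSet G := (hξz.map (continuous_pw d)).mem_closed h0 ((hd d).2 dvd_rfl)
    obtain ⟨d', hd'⟩ := exists_order z
    have hdd : d' ∣ d := (hd' d).1 hzd
    rcases eq_or_lt_of_le (Nat.le_of_dvd hd0 hdd) with h | h
    · rw [hd', h]
    · exfalso
      exact Set.mem_iInter₂.1 hz d' (Finset.mem_Ioo.2 ⟨Nat.pos_of_dvd_of_pos hdd hd0, h⟩) ((hd' d').2 dvd_rfl)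

/-- Torsion of exact order `n` near a point outside of the torsion set. -/
theorem not_tau_of_specializes [LocallyOfFinitePresentation G.hom] {ξ z : G.left} (h : ξ ⤳ z)
    (hξ : ∀ n, 0 < n → pw G n ξ ∉ SGA3x.neutralSet G) : ∀ n, 0 < n → pw G n z ∉ SGA3x.neutralSet G :=
  fun n hn hz => let ⟨m, hm, hm'⟩ := exists_pw_mem_of_specializes h hn hz; hξ m hm hm'

/-- On a locally Noetherian scheme, the preimage of a locally constructible set is locally constructible. -/
theorem isLocallyConstructible_exact_order [LocallyOfFinitePresentation G.hom] [QuasiSeparated G.hom] (n : ℕ) :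
    IsLocallyConstructible (pw G n ⁻¹' SGA3x.neutralSet G) :=
  Groth.AlgSpBasic.isLocallyConstructible_preimage_scheme ((𝟙 G : G ⟶ G) ^ n).left isLocallyConstructible_neutralSet

end Groth.FgaTau

namespace Groth.FgaTau

variable {S : Scheme.{u}} {G : Over S} [GrpObj G]

/-- The points having an exponent in `E` form an ind-constructible set. -/
theorem isIndConstructible_exponents [LocallyOfFinitePresentation G.hom] (E : Set ℕ) :
    ProCons.IsIndConstructible {x : ↥G.left | ∃ n ∈ E, pw G n x ∈ SGA3x.neutralSet G} := by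
  refine Groth.Calg2.ProCons.isIndConstructible_of fun V hV y hy => ?_
  obtain ⟨n, hn, hny⟩ := hy
  haveI : IsAffine (V : Scheme.{u}) := hV
  obtain ⟨W, hW, -, w, hw, T, hT, hwT, hTE⟩ := Groth.Calg2.ProCons.exists_constructible_of_ind
    (Groth.Agent.S15543.result (V.ι ≫ ((𝟙 G : G ⟶ G) ^ n).left) _
      (Groth.Sga3.NeutralGen.isIndConstructible_neutralSet (G := G)))
    (x := y) (show ((𝟙 G : G ⟶ G) ^ n).left.base (V.ι.base y) ∈ SGA3x.neutralSet G from hny) ⊤ trivial
  haveI : IsAffine (W : Scheme.{u}) := hW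
  refine ⟨W.ι.base '' T, ?_, ⟨w, hwT, hw⟩, ?_⟩
  · refine hT.image_of_isOpenEmbedding W.ι.isOpenEmbedding ?_
    rw [Scheme.Opens.range_ι]
    exact fun U hU hUo => QuasiSeparatedSpace.inter_isCompact _ _ W.isOpen hW.isCompact hUo hU
  · rintro _ ⟨z, hz, rfl⟩
    exact ⟨n, hn, hTE hz⟩

end Groth.FgaTau
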