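import Groth.Agent.Sga3.NeutralGen.MulOpen
import Groth.Agent.Sga3.NeutralGen.Cons
import Groth.Agent.SGA7.IdComponent
import Mathlib

/-!
The exponents carrying a point of a group scheme into the neutral set, and their variation along
connected components and generalizations.
-/

set_option autoImplicit false
set_option linter.style.haveILetI false

universe u

open CategoryTheory CategoryTheory.Limits MonoidalCategory CartesianMonoidalCategory MonObj GrpObj
  AlgebraicGeometry TopologicalSpace Topology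

noncomputable section

namespace Groth.FgaTau

open Groth.GrpschAbsch Groth.Sga3.NeutralGen

variable {S : Scheme.{u}} {G : Over S} [GrpObj G]

variable (G) in
/-- The `n`-th power map on points. -/
abbrev pw (n : ℕ) : G.left → G.left := ((𝟙 G : G ⟶ G) ^ n).left.base

theorem hom_pw (n : ℕ) (x : G.left) : G.hom.base (pw G n x) = G.hom.base x := by
  rw [← Scheme.Hom.comp_apply, Over.w]

theorem continuous_pw (n : ℕ) : Continuous (pw G n) := ((𝟙 G : G ⟶ G) ^ n).left.continuous

theorem pw_comp (m n : ℕ) (x : G.left) : pw G m (pw G n x) = pw G (n * m) x := by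
  show ((𝟙 G : G ⟶ G) ^ m).left.base (((𝟙 G : G ⟶ G) ^ n).left.base x) = ((𝟙 G : G ⟶ G) ^ (n * m)).left.base x
  rw [← Scheme.Hom.comp_apply, ← Over.comp_left, MonObj.comp_pow, Category.comp_id, ← pow_mul]

/-- A product of two morphisms takes values in the neutral set where both factors do. -/
theorem mul_mem {X : Over S} (f g : X ⟶ G) {x : X.left} (hf : f.left.base x ∈ SGA3x.neutralSet G)
    (hg : g.left.base x ∈ SGA3x.neutralSet G) : (f * g).left.base x ∈ SGA3x.neutralSet G := by
  have h := mul_mem_neutralSet (G := G) (q := (lift f g).left.base x)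
    (by rwa [← Scheme.Hom.comp_apply, ← Over.comp_left, lift_fst])
    (by rwa [← Scheme.Hom.comp_apply, ← Over.comp_left, lift_snd])
  rwa [← Scheme.Hom.comp_apply, ← Over.comp_left, MonObj.comp_mul, lift_fst, lift_snd] at h

theorem inv_mem {X : Over S} (f : X ⟶ G) {x : X.left} (hf : f.left.base x ∈ SGA3x.neutralSet G) :
    (f⁻¹).left.base x ∈ SGA3x.neutralSet G := by
  rw [Hom.inv_def, Over.comp_left, Scheme.Hom.comp_apply]
  exact inv_mem_neutralSet hf

theorem one_mem {X : Over S} (x : X.left) : (1 : X ⟶ G).left.base x ∈ SGA3x.neutralSet G := by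
  rw [Hom.one_def, Over.comp_left, Scheme.Hom.comp_apply]
  exact unit_mem G _

theorem pw_zero_mem (x : G.left) : pw G 0 x ∈ SGA3x.neutralSet G := by
  show ((𝟙 G : G ⟶ G) ^ 0).left.base x ∈ _
  rw [pow_zero]; exact one_mem x

theorem pw_add_mem {a b : ℕ} {x : G.left} (ha : pw G a x ∈ SGA3x.neutralSet G)
    (hb : pw G b x ∈ SGA3x.neutralSet G) : pw G (a + b) x ∈ SGA3x.neutralSet G := by
  show ((𝟙 G : G ⟶ G) ^ (a + b)).left.base x ∈ _
  rw [pow_add]; exact mul_mem _ _ ha hb

theorem pw_sub_mem {a b : ℕ} {x : G.left} (ha : pw G a x ∈ SGA3x.neutralSet G)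
    (hab : pw G (a + b) x ∈ SGA3x.neutralSet G) : pw G b x ∈ SGA3x.neutralSet G := by
  have h := mul_mem _ _ (inv_mem _ ha) hab
  rwa [pow_add, inv_mul_cancel_left] at h

/-- The exponents carrying a point into the neutral set are the multiples of one of them. -/
theorem exists_order (x : G.left) : ∃ d : ℕ, ∀ n, pw G n x ∈ SGA3x.neutralSet G ↔ d ∣ n := by
  classical
  have hmul : ∀ {d : ℕ}, pw G d x ∈ SGA3x.neutralSet G → ∀ k, pw G (d * k) x ∈ SGA3x.neutralSet G := by
    intro d hd k
    induction k with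
    | zero => exact pw_zero_mem x
    | succ k ih => rw [Nat.mul_succ]; exact pw_add_mem ih hd
  by_cases h : ∃ n, 0 < n ∧ pw G n x ∈ SGA3x.neutralSet G
  · obtain ⟨hd0, hd⟩ := Nat.find_spec h
    refine ⟨Nat.find h, fun n => ⟨fun hn => ?_, fun ⟨k, hk⟩ => hk ▸ hmul hd k⟩⟩
    refine Nat.dvd_of_mod_eq_zero (Nat.eq_zero_of_not_pos fun hr => ?_)
    refine Nat.find_min h (Nat.mod_lt n hd0) ⟨hr, pw_sub_mem (hmul hd (n / Nat.find h)) ?_⟩
    rwa [Nat.div_add_mod]
  · refine ⟨0, fun n => ⟨fun hn => ?_, fun hn => ?_⟩⟩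
    · rw [zero_dvd_iff]
      exact Nat.eq_zero_of_not_pos fun h' => h ⟨n, h', hn⟩
    · rw [zero_dvd_iff] at hn
      subst hn; exact pw_zero_mem x

theorem pw_mem_of_dvd {a b : ℕ} {x : G.left} (h : a ∣ b) (ha : pw G a x ∈ SGA3x.neutralSet G) :
    pw G b x ∈ SGA3x.neutralSet G := by
  obtain ⟨d, hd⟩ := exists_order x
  exact (hd b).2 (((hd a).1 ha).trans h)

/-- The exponents are constant on each connected component of a fibre. -/
theorem pw_mem_iff_of_component {s : S} {c c' : G.hom.fiber s} (hc : c' ∈ connectedComponent c) (n : ℕ) :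
    pw G n ((G.hom.fiberι s).base c) ∈ SGA3x.neutralSet G ↔ pw G n ((G.hom.fiberι s).base c') ∈ SGA3x.neutralSet G := by
  suffices key : ∀ a b : G.hom.fiber s, b ∈ connectedComponent a →
      pw G n ((G.hom.fiberι s).base a) ∈ SGA3x.neutralSet G → pw G n ((G.hom.fiberι s).base b) ∈ SGA3x.neutralSet G from
    ⟨key _ _ hc, key _ _ (connectedComponent_eq hc ▸ mem_connectedComponent)⟩
  intro a b hb ha
  let F := pw G n ∘ (G.hom.fiberι s).base
  have hF : Continuous F := (continuous_pw n).comp (G.hom.fiberι s).continuous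
  obtain ⟨p, hp⟩ := Set.mem_iUnion.1 ha
  have hbase : ∀ w, G.hom.base (F w) = s := fun w => by
    show G.hom.base (pw G n ((G.hom.fiberι s).base w)) = s
    rw [hom_pw]
    exact (G.hom.range_fiberι s).le ⟨w, rfl⟩
  have hsub : F '' connectedComponent a ⊆ G.hom.base ⁻¹' {(𝟙_ (Over S)).hom.base p} := by
    rintro _ ⟨w, -, rfl⟩
    exact (hbase w).trans ((hbase a).symm.trans
      (Set.mem_singleton_iff.1 (connectedComponentIn_subset (G.hom.base ⁻¹' {(𝟙_ (Over S)).hom.base p}) _ hp)))
  have h := (isConnected_connectedComponent.isPreconnected.image F hF.continuousOn).subset_connectedComponentIn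
    ⟨a, mem_connectedComponent, rfl⟩ hsub
  exact Set.mem_iUnion.2 ⟨p, (connectedComponentIn_eq hp) ▸ h ⟨b, hb, rfl⟩⟩

/-- Only finitely many orders occur on a compact open of a fibre. -/
theorem finite_orders [LocallyOfFiniteType G.hom] (W : G.left.Opens) (hW : IsCompact (W : Set G.left)) (s : S) :
    ∃ D : Set ℕ, D.Finite ∧ ∀ w ∈ W, G.hom.base w = s →
      ∃ d ∈ D, ∀ n, pw G n w ∈ SGA3x.neutralSet G ↔ d ∣ n := by
  classical
  choose d hd using exists_order (G := G)
  have : LocallyOfFiniteType (G.hom.fiberToSpecResidueField s) := MorphismProperty.pullback_snd _ _ inferInstance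
  have : IsLocallyNoetherian (G.hom.fiber s) := LocallyOfFiniteType.isLocallyNoetherian (G.hom.fiberToSpecResidueField s)
  have := Groth.SGA7.IdComponent.locallyConnectedSpace (X := G.hom.fiber s)
  haveI : QuasiCompact (S.fromSpecResidueField s) := ⟨fun V _ _ => by
    haveI : Subsingleton ↥(Spec (S.residueField s)) := inferInstanceAs (Subsingleton (PrimeSpectrum (S.residueField s)))
    exact (Set.toFinite _).isCompact⟩
  haveI : QuasiCompact (G.hom.fiberι s) := MorphismProperty.pullback_fst _ _ inferInstance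
  have hK : IsCompact ((G.hom.fiberι s).base ⁻¹' W) := (G.hom.fiberι s).isCompact_preimage hW
  let D : Set ℕ := (fun c => d ((G.hom.fiberι s).base c)) '' ((G.hom.fiberι s).base ⁻¹' W)
  refine ⟨D, ?_, fun w hw hws => ?_⟩
  · obtain ⟨t, ht⟩ := hK.elim_finite_subcover (fun c => connectedComponent c)
      (fun c => isOpen_connectedComponent) (fun c _ => Set.mem_iUnion.2 ⟨c, mem_connectedComponent⟩)
    refine (t.finite_toSet.image fun c => d ((G.hom.fiberι s).base c)).subset ?_
    rintro _ ⟨c, hc, rfl⟩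
    obtain ⟨a, hat, hca⟩ := Set.mem_iUnion₂.1 (ht hc)
    refine ⟨a, hat, Nat.dvd_antisymm ?_ ?_⟩
    · exact (hd _ _).1 ((pw_mem_iff_of_component hca _).2 ((hd _ _).2 dvd_rfl))
    · exact (hd _ _).1 ((pw_mem_iff_of_component hca _).1 ((hd _ _).2 dvd_rfl))
  · obtain ⟨c, hc⟩ := (G.hom.range_fiberι s).ge hws
    exact ⟨_, ⟨c, show (G.hom.fiberι s).base c ∈ W by rw [hc]; exact hw, rfl⟩, fun n => hc ▸ hd _ n⟩

/-- If infinitely many powers of a point stay in a compact open, a multiple of their differences falls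
into the neutral set. -/
theorem exists_pw_mem_of_compact [LocallyOfFiniteType G.hom] (W : G.left.Opens) (hW : IsCompact (W : Set G.left))
    {x : G.left} {n : ℕ} (hn : 0 < n) (hx : ∀ k, pw G (n * k) x ∈ W) :
    ∃ m, 0 < m ∧ pw G m x ∈ SGA3x.neutralSet G := by
  classical
  let K := G.left.residueField x
  let t : Spec K ⟶ S := G.left.fromSpecResidueField x ≫ G.hom
  let T : Over S := Over.mk t
  let σ : T ⟶ G := Over.homMk (G.left.fromSpecResidueField x) rfl
  let pt : T.left := IsLocalRing.closedPoint K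
  haveI : Subsingleton T.left := inferInstanceAs (Subsingleton (PrimeSpectrum K))
  have hσ : ∀ k, (σ ^ k).left.base pt = pw G k x := fun k => by
    rw [← Category.comp_id σ, ← MonObj.comp_pow, Over.comp_left, Scheme.Hom.comp_apply]
    exact congrArg (pw G k) (Scheme.fromSpecResidueField_apply _ _)
  haveI : LocallyOfFiniteType (snd G T).left := inferInstanceAs (LocallyOfFiniteType (pullback.snd G.hom T.hom))
  have : IsLocallyNoetherian T.left := inferInstanceAs (IsLocallyNoetherian (Spec (CommRingCat.of K)))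
  have : IsLocallyNoetherian (G ⊗ T).left := LocallyOfFiniteType.isLocallyNoetherian (snd G T).left
  have := Groth.SGA7.IdComponent.locallyConnectedSpace (X := (G ⊗ T).left)
  haveI : QuasiCompact T.hom := ⟨fun V _ _ => (Set.toFinite _).isCompact⟩
  haveI : QuasiCompact (fst G T).left := inferInstanceAs (QuasiCompact (pullback.fst G.hom T.hom))
  have hK : IsCompact ((fst G T).left.base ⁻¹' W) := (fst G T).left.isCompact_preimage hW
  let q : ℕ → ↥(G ⊗ T).left := fun k => (lift (σ ^ (n * k)) (𝟙 T)).left.base pt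
  have hq₁ : ∀ k, (fst G T).left.base (q k) ∈ W := fun k => by
    show (fst G T).left.base ((lift (σ ^ (n * k)) (𝟙 T)).left.base pt) ∈ W
    rw [← Scheme.Hom.comp_apply, ← Over.comp_left, lift_fst, hσ]
    exact hx k
  obtain ⟨F, hF⟩ := hK.elim_finite_subcover (fun c => connectedComponent c)
    (fun c => isOpen_connectedComponent) (fun c _ => Set.mem_iUnion.2 ⟨c, mem_connectedComponent⟩)
  have hex : ∀ k, ∃ c : ↥F, q k ∈ connectedComponent (c : ↥(G ⊗ T).left) := fun k => by
    obtain ⟨c, hc, h⟩ := Set.mem_iUnion₂.1 (hF (hq₁ k))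
    exact ⟨⟨c, hc⟩, h⟩
  choose cc hcc using hex
  obtain ⟨a', b', hne, heq⟩ := Finite.exists_ne_map_eq_of_infinite cc
  obtain ⟨a, b, hab, hqab⟩ : ∃ a b, a < b ∧ q b ∈ connectedComponent (q a) := by
    rcases Nat.lt_or_gt_of_ne hne with h | h
    · exact ⟨a', b', h, by rw [← connectedComponent_eq (hcc a'), heq]; exact hcc b'⟩
    · exact ⟨b', a', h, by rw [← connectedComponent_eq (hcc b'), ← heq]; exact hcc a'⟩
  let ℓ : G ⊗ T ⟶ G := (snd G T ≫ σ ^ (n * a))⁻¹ * fst G T
  have hℓ : ∀ k, ℓ.left.base (q k) = (((σ ^ (n * a))⁻¹ * σ ^ (n * k) : T ⟶ G)).left.base pt := fun k => by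
    show ℓ.left.base ((lift (σ ^ (n * k)) (𝟙 T)).left.base pt) = _
    rw [← Scheme.Hom.comp_apply, ← Over.comp_left, MonObj.comp_mul, GrpObj.comp_inv, lift_snd_assoc, lift_fst,
      Category.id_comp]
  have hbase : ∀ w, G.hom.base (ℓ.left.base w) = G.hom.base x := fun w => by
    rw [← Scheme.Hom.comp_apply, Over.w]
    rw [show (G ⊗ T).hom = (snd G T).left ≫ T.hom from (Over.w (snd G T)).symm, Scheme.Hom.comp_apply,
      Subsingleton.elim ((snd G T).left.base w) pt]
    exact congrArg G.hom.base (Scheme.fromSpecResidueField_apply _ _)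
  have hone : ℓ.left.base (q a) ∈ SGA3x.neutralSet G := by
    rw [hℓ, inv_mul_cancel]; exact one_mem pt
  obtain ⟨p, hp⟩ := Set.mem_iUnion.1 hone
  have h := (isConnected_connectedComponent.isPreconnected.image ℓ.left.base
    ℓ.left.continuous.continuousOn).subset_connectedComponentIn (F := G.hom.base ⁻¹' {(𝟙_ (Over S)).hom.base p})
    ⟨q a, mem_connectedComponent, rfl⟩
    (by
      rintro _ ⟨w, -, rfl⟩
      exact (hbase w).trans ((hbase (q a)).symm.trans
        (Set.mem_singleton_iff.1 (connectedComponentIn_subset (G.hom.base ⁻¹' {(𝟙_ (Over S)).hom.base p}) _ hp))))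
  rw [← connectedComponentIn_eq hp] at h
  have hb : ℓ.left.base (q b) ∈ SGA3x.neutralSet G := Set.mem_iUnion.2 ⟨p, h ⟨q b, hqab, rfl⟩⟩
  refine ⟨n * (b - a), Nat.mul_pos hn (Nat.sub_pos_of_lt hab), ?_⟩
  rwa [hℓ, show n * b = n * a + n * (b - a) by rw [← Nat.mul_add, Nat.add_sub_cancel' hab.le], pow_add,
    inv_mul_cancel_left, hσ] at hb

/-- Every fibre of the neutral set lies in a compact open. -/
theorem exists_compact_open [LocallyOfFinitePresentation G.hom] (s : S) :
    ∃ W : G.left.Opens, IsCompact (W : Set G.left) ∧ ∀ y ∈ SGA3x.neutralSet G, G.hom.base y = s → y ∈ W := by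
  classical
  obtain ⟨S₀, W, hs, hS₀, hW, e, eη⟩ := exists_unit_chart (G := G) s
  haveI := isAffine_chartObj_tensor e hS₀ hW
  have hK : IsCompact (Set.range (chartMul (G := G) W).left.base) := isCompact_range (chartMul W).left.continuous
  obtain ⟨t, ht⟩ := hK.elim_finite_subcover (fun V : G.left.affineOpens => ((V : G.left.Opens) : Set G.left))
    (fun V => (V : G.left.Opens).isOpen) fun y _ => by
      obtain ⟨V, hV, hyV, -⟩ := exists_isAffineOpen_mem_and_subset (U := ⊤) (x := y) trivial
      exact Set.mem_iUnion.2 ⟨⟨V, hV⟩, hyV⟩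
  refine ⟨⟨⋃ V ∈ t, ((V : G.left.Opens) : Set G.left), isOpen_biUnion fun V _ => (V : G.left.Opens).isOpen⟩,
    t.finite_toSet.isCompact_biUnion fun V _ => V.2.isCompact, fun y hy hys => ?_⟩
  obtain ⟨c, -, hc⟩ := (image_chartPairs (G := G) e eη).ge ⟨hy, show G.hom.base y ∈ S₀ by rw [hys]; exact hs⟩
  exact ht ⟨c, hc⟩

/-- The torsion set is stable under generalization. -/
theorem exists_pw_mem_of_specializes [LocallyOfFinitePresentation G.hom] {x' x : G.left} (h : x' ⤳ x) {n : ℕ}
    (hn : 0 < n) (hx : pw G n x ∈ SGA3x.neutralSet G) : ∃ m, 0 < m ∧ pw G m x' ∈ SGA3x.neutralSet G := by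
  haveI : LocallyOfFiniteType G.hom := inferInstance
  obtain ⟨W, hW, hWs⟩ := exists_compact_open (G := G) (G.hom.base x)
  exact exists_pw_mem_of_compact W hW hn fun k =>
    (h.map (continuous_pw _)).mem_open W.isOpen (hWs _ (pw_mem_of_dvd (dvd_mul_right n k) hx) (hom_pw _ _))

end Groth.FgaTau
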