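import Groth.Agent.FgaTau.Loci
import Mathlib

/-!
Divisibility in the neutral component under an open power map.
-/

set_option autoImplicit false
set_option linter.style.haveILetI false

universe u

open CategoryTheory CategoryTheory.Limits MonoidalCategory CartesianMonoidalCategory MonObj GrpObj
  AlgebraicGeometry TopologicalSpace Topology

noncomputable section

namespace Groth.FgaTau

open Groth.GrpschAbsch Groth.Sga3.NeutralGen

variable {S : Scheme.{u}} {G : Over S} [GrpObj G]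

/-- Lifting a point of `G ⊗ G` along an endomorphism of the first factor. -/
theorem exists_lift_fst (a : G ⟶ G) (q : ↥(G ⊗ G).left) (w : G.left)
    (hw : a.left.base w = (fst G G).left.base q) :
    ∃ r : ↥(G ⊗ G).left, (lift (fst G G ≫ a) (snd G G)).left.base r = q ∧ (fst G G).left.base r = w := by
  let φ : G ⊗ G ⟶ G ⊗ G := lift (fst G G ≫ a) (snd G G)
  have h₂ : φ.left ≫ (snd G G).left = (snd G G).left := by rw [← Over.comp_left, lift_snd]
  have h₁ : φ.left ≫ (fst G G).left = (fst G G).left ≫ a.left := by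
    rw [← Over.comp_left, lift_fst, Over.comp_left]
  have sq : IsPullback φ.left (fst G G).left (fst G G).left a.left := by
    refine IsPullback.of_right (h₁₂ := (snd G G).left) (h₂₂ := G.hom) (v₁₃ := G.hom) ?_ h₁
      (IsPullback.of_hasPullback G.hom G.hom).flip
    rw [h₂, Over.w]
    exact (IsPullback.of_hasPullback G.hom G.hom).flip
  exact Scheme.exists_preimage_of_isPullback sq q w hw.symm

/-- Lifting a point of `G ⊗ G` along an endomorphism of the second factor. -/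
theorem exists_lift_snd (b : G ⟶ G) (q : ↥(G ⊗ G).left) (w : G.left)
    (hw : b.left.base w = (snd G G).left.base q) :
    ∃ r : ↥(G ⊗ G).left, (lift (fst G G) (snd G G ≫ b)).left.base r = q ∧ (snd G G).left.base r = w := by
  let φ : G ⊗ G ⟶ G ⊗ G := lift (fst G G) (snd G G ≫ b)
  have h₂ : φ.left ≫ (fst G G).left = (fst G G).left := by rw [← Over.comp_left, lift_fst]
  have h₁ : φ.left ≫ (snd G G).left = (snd G G).left ≫ b.left := by
    rw [← Over.comp_left, lift_snd, Over.comp_left]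
  have sq : IsPullback φ.left (snd G G).left (snd G G).left b.left := by
    refine IsPullback.of_right (h₁₂ := (fst G G).left) (h₂₂ := G.hom) (v₁₃ := G.hom) ?_ h₁
      (IsPullback.of_hasPullback G.hom G.hom)
    rw [h₂, Over.w]
    exact IsPullback.of_hasPullback G.hom G.hom
  exact Scheme.exists_preimage_of_isPullback sq q w hw.symm

/-- An open power map is surjective on the neutral components. -/
theorem exists_root [IsCommMonObj G] [LocallyOfFiniteType G.hom] {M : ℕ} (hM : IsOpenMap (pw G M)) {y : G.left}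
    (hy : y ∈ SGA3x.neutralSet G) :
    ∃ w, w ∈ SGA3x.neutralSet G ∧ G.hom.base w = G.hom.base y ∧ pw G M w = y := by
  obtain ⟨s, hs⟩ : ∃ s, G.hom.base y = s := ⟨_, rfl⟩
  have : LocallyOfFiniteType (G.hom.fiberToSpecResidueField s) := MorphismProperty.pullback_snd _ _ inferInstance
  have : IsLocallyNoetherian (G.hom.fiber s) := LocallyOfFiniteType.isLocallyNoetherian (G.hom.fiberToSpecResidueField s)
  have := Groth.SGA7.IdComponent.locallyConnectedSpace (X := G.hom.fiber s)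
  obtain ⟨O, hO, hOeq⟩ := (G.hom.fiberι s).isEmbedding.isInducing.isOpen_iff.1
    (isOpen_connectedComponent (x := NeutralSet.oneFib G s))
  have hON : ∀ w ∈ O, G.hom.base w = s → w ∈ SGA3x.neutralSet G := fun w hw hws => by
    obtain ⟨c, rfl⟩ := (G.hom.range_fiberι s).ge hws
    exact (NeutralSet.fiberι_mem_iff G s c).2 (hOeq ▸ hw)
  have he : unit G s ∈ pw G M '' O := by
    refine ⟨unit G s, ?_, ?_⟩
    · show η[G].left.base s ∈ O
      rw [← NeutralSet.fiberι_oneFib]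
      exact (hOeq.symm ▸ mem_connectedComponent : NeutralSet.oneFib G s ∈ (G.hom.fiberι s).base ⁻¹' O)
    · show ((𝟙 G : G ⟶ G) ^ M).left.base (η[G].left.base s) = η[G].left.base s
      rw [← Scheme.Hom.comp_apply, ← Over.comp_left, MonObj.comp_pow, Category.comp_id,
        show (η[G] : 𝟙_ (Over S) ⟶ G) = 1 by rw [Hom.one_def, toUnit_unique (toUnit _) (𝟙 _), Category.id_comp],
        one_pow]
  obtain ⟨q, ⟨hq₁, ⟨w₁, hw₁, hw₁q⟩⟩, ⟨hq₂, ⟨w₂, hw₂, hw₂q⟩⟩, hqy⟩ := exists_mul_eq (hM O hO) hy (hs ▸ he)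
  have hbase : ∀ r : ↥(G ⊗ G).left, G.hom.base ((fst G G * snd G G).left.base r) = G.hom.base ((fst G G).left.base r) ∧
      G.hom.base ((snd G G).left.base r) = G.hom.base ((fst G G).left.base r) := fun r => by
    constructor <;> rw [← Scheme.Hom.comp_apply, ← Scheme.Hom.comp_apply, Over.w, Over.w]
  have hw₁s : G.hom.base w₁ = s := by
    rw [← hs, ← hom_pw M w₁, hw₁q, ← hqy]; exact (hbase q).1.symm
  have hw₂s : G.hom.base w₂ = s := by
    rw [← hs, ← hom_pw M w₂, hw₂q, ← hqy]; exact (hbase q).2.trans (hbase q).1.symm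
  let P : G ⟶ G := (𝟙 G) ^ M
  obtain ⟨r₁, hr₁, hr₁w⟩ := exists_lift_fst P q w₁ hw₁q
  obtain ⟨r₂, hr₂, hr₂w⟩ := exists_lift_snd P r₁ w₂ (by
    refine hw₂q.trans ?_
    rw [← hr₁, ← Scheme.Hom.comp_apply, ← Over.comp_left, lift_snd])
  have hr₂f : (fst G G).left.base r₂ = w₁ := by
    rw [← hr₁w, ← hr₂, ← Scheme.Hom.comp_apply, ← Over.comp_left, lift_fst]
  refine ⟨(fst G G * snd G G).left.base r₂, mul_mem _ _ (hr₂f ▸ hON w₁ hw₁ hw₁s) (hr₂w ▸ hON w₂ hw₂ hw₂s), ?_, ?_⟩
  · rw [(hbase r₂).1, hr₂f]; exact hw₁s.trans hs.symm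
  · rw [← hqy, ← hr₁, ← hr₂]
    show ((𝟙 G : G ⟶ G) ^ M).left.base _ = _
    simp only [← Scheme.Hom.comp_apply, ← Over.comp_left]
    congr 2
    simp only [MonObj.comp_pow, Category.comp_id, MonObj.comp_mul, lift_fst, lift_snd, lift_fst_assoc, lift_snd_assoc]
    rw [mul_pow]
    simp [P, MonObj.comp_pow]

/-- If the power maps prime to `p` are open, the `p`-power torsion set is open. -/
theorem isOpen_rho [IsCommMonObj G] [LocallyOfFinitePresentation G.hom] {p : ℕ} (hp0 : p = 1 ∨ p.Prime)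
    (hopen : ∀ n : ℕ, 0 < n → Nat.Coprime n p → IsOpenMap (pw G n)) :
    IsOpen {x : ↥G.left | ∃ h : ℕ, pw G (p ^ h) x ∈ SGA3x.neutralSet G} := by
  haveI : LocallyOfFiniteType G.hom := inferInstance
  have hp : 0 < p := by rcases hp0 with h | h <;> [omega; exact h.pos]
  have hset : {x : ↥G.left | ∃ h : ℕ, pw G (p ^ h) x ∈ SGA3x.neutralSet G} =
      {x : ↥G.left | ∃ n ∈ Set.range (p ^ ·), pw G n x ∈ SGA3x.neutralSet G} := by
    ext x; simp
  rw [isOpen_iff_mem_nhds]
  rintro x ⟨h, hx⟩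
  rw [hset]
  refine mem_interior_iff_mem_nhds.1 (Groth.Calg2.ProCons.mem_interior_of_generizations
    (isIndConstructible_exponents _) fun x' hsp => ?_)
  show ∃ n ∈ Set.range (p ^ ·), pw G n x' ∈ SGA3x.neutralSet G
  have hy : pw G (p ^ h) x' ⤳ pw G (p ^ h) x := hsp.map (continuous_pw _)
  obtain ⟨m, hm, hm'⟩ := exists_pw_mem_of_specializes hy (n := 1) Nat.one_pos (by
    rw [pw_comp, Nat.mul_one]; exact hx)
  obtain ⟨d, hd⟩ := exists_order (pw G (p ^ h) x')
  have hd0 : 0 < d := Nat.pos_of_dvd_of_pos ((hd m).1 hm') hm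
  by_cases hall : ∀ l : ℕ, l.Prime → l ∣ d → p = l
  · obtain ⟨k, hk⟩ : ∃ k, d = p ^ k := by
      by_cases h1 : d = 1
      · exact ⟨0, by rw [h1, pow_zero]⟩
      · exact ⟨_, Nat.eq_prime_pow_of_unique_prime_dvd hd0.ne' fun {l} hl hld => (hall l hl hld).symm⟩
    refine ⟨p ^ (h + k), ⟨h + k, rfl⟩, ?_⟩
    rw [pow_add, ← pw_comp, ← hk]
    exact (hd d).2 dvd_rfl
  push Not at hall
  obtain ⟨l, hl, hld, hlp⟩ := hall
  have hcop : ∀ k, Nat.Coprime (l ^ k) p := fun k => by
    rcases hp0 with rfl | hpp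
    · exact Nat.coprime_one_right _
    · exact ((Nat.coprime_primes hl hpp).2 (Ne.symm hlp)).pow_left k
  exfalso
  obtain ⟨W, hW, hWN⟩ := exists_compact_open (G := G) (G.hom.base x)
  obtain ⟨D, hD, hDW⟩ := finite_orders W hW (G.hom.base x')
  obtain ⟨B, hB⟩ := hD.bddAbove
  obtain ⟨k, hk⟩ : ∃ k, B < l ^ k := ⟨B, B.lt_pow_self hl.one_lt⟩
  have hM := hopen (l ^ k) (pow_pos hl.pos k) (hcop k)
  obtain ⟨w, hwN, hws, hwy⟩ := exists_root hM hx
  obtain ⟨w', hw', hw'y⟩ : pw G (p ^ h) x' ∈ pw G (l ^ k) '' W :=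
    hy.mem_open (hM W W.isOpen) ⟨w, hWN w hwN (by rw [hws, hom_pw]), hwy⟩
  obtain ⟨e, heD, he⟩ := hDW w' hw' (by rw [← hom_pw (l ^ k) w', hw'y, hom_pw])
  have key : ∀ n, d ∣ n ↔ e ∣ l ^ k * n := fun n => by
    rw [← hd, ← he, ← hw'y, pw_comp]
  obtain ⟨a, b, ha, hb, hab⟩ := exists_dvd_and_dvd_of_dvd_mul ((key d).1 dvd_rfl)
  obtain ⟨j, hjk, rfl⟩ := (Nat.dvd_prime_pow hl).1 ha
  have hjk' : j = k := by
    by_contra hne
    obtain ⟨d₁, rfl⟩ := hld
    have : l * d₁ ∣ d₁ := (key d₁).2 (hab ▸ (mul_dvd_mul_left (l ^ j) hb).trans (by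
      rw [← Nat.mul_assoc, ← pow_succ]
      exact mul_dvd_mul_right (pow_dvd_pow l (by omega)) d₁))
    have h2 := Nat.le_of_dvd (Nat.pos_of_mul_pos_left hd0) this
    have := hl.two_le
    nlinarith [Nat.pos_of_mul_pos_left hd0]
  have he0 : 0 < b := Nat.pos_of_dvd_of_pos hb hd0
  have := hB heD
  rw [hab, hjk'] at this
  nlinarith [pow_pos hl.pos k]

end Groth.FgaTau
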