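import Groth.Agent.FlatMor2.TorsionLift

/-!
`n`-th roots of invertible modules lift along thickenings when `n` is invertible.
-/

universe u

open AlgebraicGeometry CategoryTheory TopologicalSpace
open Groth.PicAux

namespace Groth.FgaTau

variable {X X' : Scheme.{u}} (i : X ⟶ X') [IsClosedImmersion i] [Surjective i]

/-- An `n`-th root on `X` of the restriction of an invertible module on the thickening `X'`
lifts to an `n`-th root on `X'`. -/
theorem exists_root_lift {n : ℕ} (hn : 0 < n) (hu : IsUnit (n : Γ(X, ⊤))) (N : X'.Modules)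
    (hN : PicF.IsInvertible N) (L : X.Modules) (hL : PicF.IsInvertible L)
    (hroot : Nonempty (CohB1.tensorPow L n ≅ (Scheme.Modules.pullback i).obj N)) :
    ∃ M : X'.Modules, PicF.IsInvertible M ∧ Nonempty (CohB1.tensorPow M n ≅ N) := by
  obtain ⟨e⟩ := hroot
  -- a cover of `X'` by affine opens with generators of `N` and, on the preimages, of `L`
  have hloc : ∀ y : X', ∃ (U : X'.Opens) (s : Γ(L, i ⁻¹ᵁ U)) (g : Γ(N, U)),
      IsAffineOpen U ∧ y ∈ U ∧ Gen L (i ⁻¹ᵁ U) s ∧ Gen N U g := by
    intro y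
    obtain ⟨W', g, hyW', hg⟩ := (isInvertible_iff_exists_gen N).1 hN y
    obtain ⟨x, rfl⟩ := i.surjective y
    obtain ⟨W, s, hxW, hs⟩ := (isInvertible_iff_exists_gen L).1 hL x
    obtain ⟨O, hO, hOW⟩ := i.isClosedEmbedding.isInducing.isOpen_iff.1 W.2
    have hxO : i x ∈ O := by
      have : x ∈ i ⁻¹' O := by rw [hOW]; exact hxW
      exact this
    obtain ⟨_, ⟨U, hU, rfl⟩, hxU, hUO⟩ :=
      X'.isBasis_affineOpens.exists_subset_of_mem_open
        (show i x ∈ O ∩ (W' : Set X') from ⟨hxO, hyW'⟩) (hO.inter W'.2)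
    have hle : i ⁻¹ᵁ U ≤ W := by
      intro z hz
      have : z ∈ i ⁻¹' O := (hUO hz).1
      rwa [hOW] at this
    exact ⟨U, _, _, hU, hxU, hs.res hle, hg.res fun z hz => (hUO hz).2⟩
  choose U s g hUaff hyU hs hg using hloc
  have hU : iSup U = ⊤ := top_le_iff.1 fun y _ => Opens.mem_iSup.2 ⟨y, hyU y⟩
  -- the generators `t a` of `L^n` coming from those of `N`
  let t : ∀ a, Γ(CohB1.tensorPow L n, i ⁻¹ᵁ U a) := fun a =>
    e.inv.app (i ⁻¹ᵁ U a) (pullSec i N (g a))
  have ht : ∀ a, Gen (CohB1.tensorPow L n) (i ⁻¹ᵁ U a) (t a) := fun a =>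
    ((hg a).pull i).map e.inv
  choose c hc using fun a => (ht a).exists_unit ((hs a).pow n)
  choose C hC using fun a => i.app_surjective (U a) (hUaff a) (c a : Γ(X, i ⁻¹ᵁ U a))
  have hCu : ∀ a, IsUnit (C a) := fun a =>
    FlatMor2.isUnit_of_app i (hUaff a) _ ((hC a).symm ▸ (c a).isUnit)
  have hl : ∀ a b, i ⁻¹ᵁ (U a ⊓ U b) ≤ i ⁻¹ᵁ U a := fun a b => i.preimage_mono inf_le_left
  have hr : ∀ a b, i ⁻¹ᵁ (U a ⊓ U b) ≤ i ⁻¹ᵁ U b := fun a b => i.preimage_mono inf_le_right
  choose η hη using fun a b => ((hs b).res (hr a b)).exists_unit ((hs a).res (hl a b))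
  choose γ hγ using fun a b => ((hg b).res (inf_le_right : U a ⊓ U b ≤ U b)).exists_unit
    ((hg a).res (inf_le_left : U a ⊓ U b ≤ U a))
  have htγ : ∀ a b, res _ (hl a b) (t a) = i.app _ (γ a b).val • res _ (hr a b) (t b) := by
    intro a b
    have h1 := congrArg (fun z => e.inv.app _ (pullSec i N z)) (hγ a b)
    simp only [pullSec_smul, Scheme.Modules.Hom.app_smul] at h1
    rw [← res_pullSec i N (inf_le_left : U a ⊓ U b ≤ U a) (g a),
      ← res_pullSec i N (inf_le_right : U a ⊓ U b ≤ U b) (g b), app_res, app_res] at h1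
    exact h1
  have hcη : ∀ a b, resX X (hl a b) (c a) * i.app _ (γ a b).val =
      (η a b : Γ(X, _)) ^ n * resX X (hr a b) (c b) := by
    intro a b
    refine (ht b).smul_inj (hr a b) ?_
    have ha := congrArg (res _ (hl a b)) (hc a)
    have hb := congrArg (res _ (hr a b)) (hc b)
    simp only [res_powSec, res_smul] at ha hb
    rw [mul_smul, mul_smul, ← hb, ← powSec_smul, ← hη, ← htγ, ← ha]
  let v : ∀ a b, Γ(X', U a ⊓ U b) := fun a b =>
    resX X' (inf_le_left : U a ⊓ U b ≤ U a) (C a) * (γ a b).val *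
      (((hCu b).map (resX X' (inf_le_right : U a ⊓ U b ≤ U b))).unit⁻¹ : Units _).val
  have hv : ∀ a b, v a b * resX X' inf_le_right (C b) =
      resX X' inf_le_left (C a) * (γ a b).val := by
    intro a b
    rw [mul_assoc, IsUnit.val_inv_mul, mul_one]
  have hiv : ∀ a b, (η a b : Γ(X, _)) ^ n = i.app _ (v a b) := by
    intro a b
    have h1 := congrArg (fun z => i.app _ z) (hv a b)
    simp only [map_mul, FlatMor2.app_resX, hC] at h1
    rw [hcη a b] at h1
    exact ((((c b).isUnit.map (resX X (hr a b))).mul_left_inj).1 h1).symm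
  choose E hE hEuniq using fun a b =>
    FlatMor2.existsUnique_section_root i hn hu (U a ⊓ U b) (v a b) _ (η a b).isUnit (hiv a b)
  have hEu : ∀ a b, IsUnit (E a b) := by
    intro a b
    refine (isUnit_pow_iff hn.ne').1 ?_
    rw [(hE a b).1]
    exact (((hCu a).map _).mul (γ a b).isUnit).mul (Units.isUnit _)
  have hEC : ∀ a b, E a b ^ n * resX X' inf_le_right (C b) =
      resX X' inf_le_left (C a) * (γ a b).val :=
    fun a b => (hE a b).1.symm ▸ hv a b
  -- the cocycle condition
  have hcocycle : ∀ a b d,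
      resX X' (inf_le_inf_right (U d) inf_le_left : U a ⊓ U b ⊓ U d ≤ U a ⊓ U d) (E a d) =
        resX X' (inf_le_left : U a ⊓ U b ⊓ U d ≤ U a ⊓ U b) (E a b) *
          resX X' (inf_le_inf_right (U d) inf_le_right : U a ⊓ U b ⊓ U d ≤ U b ⊓ U d) (E b d) := by
    intro a b d
    set T := U a ⊓ U b ⊓ U d
    have hab : T ≤ U a ⊓ U b := inf_le_left
    have had : T ≤ U a ⊓ U d := inf_le_inf_right _ inf_le_left
    have hbd : T ≤ U b ⊓ U d := inf_le_inf_right _ inf_le_right
    have hγc : resX X' hab (γ a b).val * resX X' hbd (γ b d).val = resX X' had (γ a d).val := by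
      have e1 := congrArg (res N hab) (hγ a b)
      have e2 := congrArg (res N hbd) (hγ b d)
      have e3 := congrArg (res N had) (hγ a d)
      simp only [res_smul, res_res] at e1 e2 e3
      refine (hg d).smul_inj (inf_le_right : T ≤ U d) ?_
      rw [mul_smul, ← e2, ← e1, ← e3]
    have hw : IsUnit (resX X (i.preimage_mono had) (η a d : Γ(X, _))) := (η a d).isUnit.map _
    refine (FlatMor2.existsUnique_section_root i hn hu T (resX X' had (v a d)) _ hw
      (by rw [← map_pow, hiv, ← FlatMor2.app_resX])).unique ⟨?_, ?_⟩ ⟨?_, ?_⟩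
    · rw [← map_pow, (hE a d).1]
    · rw [FlatMor2.app_resX, (hE a d).2]
    · refine ((hCu d).map (resX X' (inf_le_right : T ≤ U d))).mul_left_inj.1 ?_
      have e1 := congrArg (resX X' hab) (hEC a b)
      have e2 := congrArg (resX X' hbd) (hEC b d)
      have e3 := congrArg (resX X' had) (hv a d)
      simp only [map_mul, map_pow, resX_resX] at e1 e2 e3
      rw [e3, mul_pow, mul_assoc, e2, ← mul_assoc, e1, mul_assoc, hγc]
    · rw [map_mul, FlatMor2.app_resX, FlatMor2.app_resX, (hE a b).2, (hE b d).2]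
      have e1 := congrArg (res L (i.preimage_mono hab)) (hη a b)
      have e2 := congrArg (res L (i.preimage_mono hbd)) (hη b d)
      have e3 := congrArg (res L (i.preimage_mono had)) (hη a d)
      simp only [res_smul, res_res] at e1 e2 e3
      refine (hs d).smul_inj (i.preimage_mono (inf_le_right : T ≤ U d)) ?_
      rw [mul_smul, ← e2, ← e1, ← e3]
  obtain ⟨M, s', hs', hM, hrel⟩ :=
    exists_module_of_cocycle U (fun a b => E a b) hU hEu hcocycle
  refine ⟨M, hM, ?_⟩
  obtain ⟨e', -⟩ := exists_iso_of_gen hU (fun a => powSec (s' a) n) (fun a => (hs' a).pow n)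
    (fun a => C a • g a) (fun a => (hg a).smul_unit (hCu a)) fun a b r hr' => by
      have h2 : r = E a b ^ n := by
        refine ((hs' b).pow n).smul_inj inf_le_right ?_
        rw [← hr']
        simp only [res_powSec]
        rw [hrel a b, powSec_smul]
      subst h2
      simp only [res_smul, hγ a b, ← mul_smul, hEC a b]
  exact ⟨e'⟩

end Groth.FgaTau
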